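import Mathlib.RepresentationTheory.Homological.GroupCohomology.Basic
import Mathlib.RepresentationTheory.Homological.GroupCohomology.LowDegree
import Mathlib.RepresentationTheory.Rep.Res
import Mathlib.Algebra.Homology.ShortComplex.ShortExact
import Mathlib.Algebra.Homology.ShortComplex.ModuleCat
import Mathlib.GroupTheory.GroupAction.Quotient

/-!
Coflasque lattices: vanishing of `H¹` on all subgroups against splitting of extensions by
permutation modules.
-/

set_option autoImplicit false

open CategoryTheory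

namespace Groth.Agent.Lib.Coflasque.Basic

variable {k : Type} [CommRing k] {Γ : Type} [Group Γ]

theorem permHom_ext {X : Type} {M : Type} [AddCommGroup M] [Module k M]
    {f g : MonoidAlgebra k X →ₗ[k] M}
    (h : ∀ x, f (MonoidAlgebra.single x 1) = g (MonoidAlgebra.single x 1)) : f = g := by
  apply LinearMap.ext
  intro z
  induction z using MonoidAlgebra.induction_linear with
  | zero => simp
  | add a b ha hb => rw [map_add, map_add, ha, hb]
  | single x r =>
    rw [show MonoidAlgebra.single x r = r • MonoidAlgebra.single x (1 : k) by simp,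
      map_smul, map_smul, h]

/-- The linear map from `k[X]` with prescribed values on the points. -/
noncomputable def permLift {X : Type} {M : Type} [AddCommGroup M] [Module k M] (v : X → M) :
    MonoidAlgebra k X →ₗ[k] M :=
  Finsupp.linearCombination k v ∘ₗ (MonoidAlgebra.coeffLinearEquiv k).toLinearMap

@[simp]
theorem permLift_single {X : Type} {M : Type} [AddCommGroup M] [Module k M] (v : X → M) (x : X)
    (r : k) : permLift v (MonoidAlgebra.single x r) = r • v x := by
  simp [permLift]

theorem split_of_h1 (A : Rep k Γ)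
    (hA : ∀ Γ' : Subgroup Γ, Limits.IsZero (groupCohomology (Rep.res Γ'.subtype A) 1))
    (X : Type) [MulAction Γ X] (E : ShortComplex (Rep k Γ)) (hE : E.ShortExact)
    (e₁ : E.X₁ ≅ A) (e₃ : E.X₃ ≅ Rep.ofMulAction k Γ X) : Nonempty E.Splitting := by
  classical
  let p := E.g ≫ e₃.hom
  let i := e₁.inv ≫ E.f
  have hp : Function.Surjective p.hom := by
    have := hE.epi_g
    exact (Rep.epi_iff_surjective p).mp (by infer_instance)
  have hi : Function.Injective i.hom := by
    have := hE.mono_f
    exact (Rep.mono_iff_injective i).mp (by infer_instance)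
  have hex : ∀ z, p.hom z = 0 → ∃ a, i.hom a = z := by
    intro z hz
    have h0 : E.g.hom z = 0 := by
      have := congrArg e₃.inv.hom hz
      simpa [p] using this
    obtain ⟨a, ha⟩ := (ShortComplex.moduleCat_exact_iff _).mp
      (hE.exact.map (forget₂ (Rep k Γ) (ModuleCat k))) z h0
    refine ⟨e₁.hom.hom a, ?_⟩
    show E.f.hom (e₁.inv.hom (e₁.hom.hom a)) = z
    exact (congrArg E.f.hom (Rep.inv_hom_apply _ _ e₁ (a : E.X₁))).trans ha
  -- fixed lifts of the points
  have hfix : ∀ x : X, ∃ w : E.X₂, p.hom w = MonoidAlgebra.single x 1 ∧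
      ∀ σ ∈ MulAction.stabilizer Γ x, E.X₂.ρ σ w = w := by
    intro x
    obtain ⟨e, he⟩ := hp (MonoidAlgebra.single x 1)
    let S := MulAction.stabilizer Γ x
    have hk : ∀ σ : S, p.hom (E.X₂.ρ σ.1 e - e) = 0 := by
      intro σ
      rw [map_sub, Rep.hom_comm_apply, he]
      have : σ.1 • x = x := σ.2
      simp [Representation.ofMulAction_single, this]
    choose c hc using fun σ => hex _ (hk σ)
    have hcoc : c ∈ groupCohomology.cocycles₁ (Rep.res S.subtype A) := by
      rw [groupCohomology.mem_cocycles₁_iff]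
      intro g h
      apply hi
      change i.hom (c (g * h)) = i.hom (A.ρ g.1 (c h) + c g)
      rw [map_add, Rep.hom_comm_apply, hc, hc, hc, map_sub]
      simp only [Subgroup.coe_mul, map_mul, Module.End.mul_apply]
      abel
    have : Subsingleton (groupCohomology (Rep.res S.subtype A) 1) :=
      ModuleCat.subsingleton_of_isZero (hA S)
    obtain ⟨a, ha⟩ := (groupCohomology.H1π_eq_zero_iff
      (⟨c, hcoc⟩ : groupCohomology.cocycles₁ (Rep.res S.subtype A))).mp (Subsingleton.elim _ _)
    refine ⟨e - i.hom a, ?_, fun σ hσ => ?_⟩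
    · have : p.hom (i.hom a) = 0 := by
        have h0 := DFunLike.congr_fun (congrArg Rep.Hom.hom E.zero) (e₁.inv.hom a)
        simp only [p, i, Rep.hom_comp, Representation.IntertwiningMap.comp_apply] at h0 ⊢
        rw [h0]
        simp
      rw [map_sub, he, this, sub_zero]
    · have h1 : A.ρ σ a - a = c ⟨σ, hσ⟩ := congrFun ha ⟨σ, hσ⟩
      have h2 := hc ⟨σ, hσ⟩
      rw [← h1, map_sub, Rep.hom_comm_apply] at h2
      rw [map_sub]
      linear_combination (norm := abel) (-1 : ℤ) • h2
  choose w hw hwfix using hfix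
  -- representatives of the orbits
  let rep : X → X := fun x => (Quotient.mk (MulAction.orbitRel Γ X) x).out
  have hrep : ∀ x, ∃ g : Γ, g • rep x = x := fun x => by
    have h : x ∈ MulAction.orbit Γ (rep x) := by
      rw [← MulAction.orbitRel_apply]
      exact Quotient.exact (Quotient.out_eq (Quotient.mk (MulAction.orbitRel Γ X) x)).symm
    exact h
  have hrep' : ∀ (g : Γ) x, rep (g • x) = rep x := fun g x =>
    congrArg Quotient.out (Quotient.sound (MulAction.mem_orbit x g))
  choose t ht using hrep
  let v : X → E.X₂ := fun x => E.X₂.ρ (t x) (w (rep x))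
  have hv : ∀ (g : Γ) x, E.X₂.ρ g (v x) = v (g • x) := by
    intro g x
    have h1 : (t (g • x))⁻¹ * (g * t x) ∈ MulAction.stabilizer Γ (rep x) := by
      rw [MulAction.mem_stabilizer_iff, mul_smul, mul_smul, ht, inv_smul_eq_iff]
      conv_rhs => rw [← hrep' g x, ht]
    have h2 := congrArg (E.X₂.ρ (t (g • x))) (hwfix _ _ h1)
    rw [← Module.End.mul_apply, ← map_mul, mul_inv_cancel_left, map_mul,
      Module.End.mul_apply] at h2
    simp only [v, hrep' g x]
    exact h2
  have hpv : ∀ x, p.hom (v x) = MonoidAlgebra.single x 1 := by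
    intro x
    simp only [v]
    rw [Rep.hom_comm_apply, hw]
    simp [Representation.ofMulAction_single, ht]
  let s₀ : Rep.ofMulAction k Γ X ⟶ E.X₂ := Rep.ofHom
    ⟨permLift v, fun g => permHom_ext fun x => by
      simp [Representation.ofMulAction_single, hv]⟩
  have hs₀ : s₀ ≫ p = 𝟙 _ := by
    refine Rep.hom_ext (Representation.IntertwiningMap.toLinearMap_injective _ _ (permHom_ext fun x => ?_))
    simp [s₀, hpv]
  refine ⟨ShortComplex.Splitting.ofExactOfSection E hE.exact (e₃.hom ≫ s₀) ?_ hE.mono_f⟩
  rw [← cancel_mono e₃.hom, Category.assoc, Category.assoc, hs₀, Category.comp_id, Category.id_comp]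

theorem h1_of_split (A : Rep k Γ)
    (hA : ∀ (X : Type) [MulAction Γ X] [Finite X] (E : ShortComplex (Rep k Γ)),
      E.ShortExact → Nonempty (E.X₁ ≅ A) → Nonempty (E.X₃ ≅ Rep.ofMulAction k Γ X) →
        Nonempty E.Splitting)
    [Finite Γ] (Γ' : Subgroup Γ) :
    Limits.IsZero (groupCohomology (Rep.res Γ'.subtype A) 1) := by
  classical
  suffices Subsingleton (groupCohomology (Rep.res Γ'.subtype A) 1) from
    ModuleCat.isZero_of_subsingleton _
  refine subsingleton_of_forall_eq 0 fun z => ?_
  induction z using groupCohomology.H1_induction_on with | _ c => ?_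
  rw [groupCohomology.H1π_eq_zero_iff]
  have hc : ∀ g h : Γ', c (g * h) = A.ρ g.1 (c h) + c g :=
    (groupCohomology.mem_cocycles₁_iff (A := Rep.res Γ'.subtype A) _).mp c.2
  -- representatives of the cosets
  let X := Γ ⧸ Γ'
  let x₀ : X := ((1 : Γ) : Γ ⧸ Γ')
  let t : X → Γ := fun x => if x = x₀ then 1 else x.out
  have ht : ∀ x : X, ((t x : Γ) : Γ ⧸ Γ') = x := by
    intro x
    by_cases h : x = x₀
    · simp only [t, h, if_true]; rfl
    · simp only [t, if_neg h]; exact QuotientGroup.out_eq' x
  have hmem : ∀ (g : Γ) (x : X), (t (g • x))⁻¹ * (g * t x) ∈ Γ' := by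
    intro g x
    rw [← QuotientGroup.eq, ht]
    exact (congrArg (g • ·) (ht x)).symm
  let γ : Γ → X → Γ' := fun g x => ⟨_, hmem g x⟩
  let D : Γ → X → A := fun g x => A.ρ (t (g • x)) (c (γ g x))
  have hγ : ∀ g h x, γ (g * h) x = γ g (h • x) * γ h x := by
    intro g h x
    apply Subtype.ext
    simp only [γ, Subgroup.coe_mul, mul_smul]
    group
  have hD : ∀ g h x, D (g * h) x = A.ρ g (D h x) + D g (h • x) := by
    intro g h x
    simp only [D, hγ, hc, map_add, mul_smul]
    congr 1
    rw [← Module.End.mul_apply, ← map_mul, ← Module.End.mul_apply, ← map_mul]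
    simp [γ, mul_assoc]
  have hD1 : ∀ x, D 1 x = 0 := by
    intro x
    have h := hD 1 1 x
    simpa using h
  -- the extension
  let P := Representation.ofMulAction k Γ X
  let M : Γ → Module.End k (A × MonoidAlgebra k X) := fun g =>
    ((A.ρ g).coprod (permLift (D g))).prod ((P g).comp (LinearMap.snd k A _))
  have hM : ∀ g a z, M g (a, z) = (A.ρ g a + permLift (D g) z, P g z) := fun g a z => rfl
  let ρE : Representation k Γ (A × MonoidAlgebra k X) :=
    { toFun := M
      map_one' := by
        refine LinearMap.ext fun ⟨a, z⟩ => ?_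
        have h0 : permLift (k := k) (D 1) = 0 := permHom_ext fun x => by simp [hD1]
        simp [hM, h0]
      map_mul' := fun g h => by
        refine LinearMap.ext fun ⟨a, z⟩ => ?_
        have h0 : permLift (k := k) (D (g * h)) =
            A.ρ g ∘ₗ permLift (D h) + permLift (D g) ∘ₗ P h :=
          permHom_ext fun x => by simp [P, hD, Representation.ofMulAction_single]
        simp [hM, h0, add_assoc] }
  let j : A ⟶ Rep.of ρE := Rep.ofHom
    ⟨LinearMap.inl k A _, fun g => LinearMap.ext fun a => by simp [ρE, hM]⟩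
  let q : Rep.of ρE ⟶ Rep.ofMulAction k Γ X := Rep.ofHom
    ⟨LinearMap.snd k A _, fun g => LinearMap.ext fun ⟨a, z⟩ => by simp [ρE, hM, P]⟩
  let E : ShortComplex (Rep k Γ) := ShortComplex.mk j q (by
    refine Rep.hom_ext (Representation.IntertwiningMap.toLinearMap_injective _ _ ?_)
    exact LinearMap.ext fun a => rfl)
  have hE : E.ShortExact :=
    { exact := by
        rw [← ShortComplex.exact_map_iff_of_faithful E (forget₂ (Rep k Γ) (ModuleCat k)),
          ShortComplex.moduleCat_exact_iff]
        rintro ⟨a, z⟩ (hz : z = 0)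
        exact ⟨a, by subst hz; rfl⟩
      mono_f := (Rep.mono_iff_injective _).mpr fun a b h => congrArg Prod.fst h
      epi_g := (Rep.epi_iff_surjective _).mpr fun z => ⟨(0, z), rfl⟩ }
  obtain ⟨sp⟩ := hA X E hE ⟨Iso.refl _⟩ ⟨Iso.refl _⟩
  obtain ⟨a, z, haz⟩ : ∃ a z, sp.s.hom (MonoidAlgebra.single x₀ 1) = (a, z) := ⟨_, _, rfl⟩
  have hz : z = MonoidAlgebra.single x₀ 1 := by
    have h := DFunLike.congr_fun (congrArg Rep.Hom.hom sp.s_g) (MonoidAlgebra.single x₀ 1)
    change q.hom (sp.s.hom (MonoidAlgebra.single x₀ 1)) = _ at h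
    rw [haz] at h
    exact h
  refine ⟨-a, funext fun g => ?_⟩
  change A.ρ g.1 (-a) - -a = c g
  have hx : g.1 • x₀ = x₀ := by
    show ((g.1 * 1 : Γ) : Γ ⧸ Γ') = _
    rw [mul_one]
    exact QuotientGroup.eq.mpr (by simp)
  have h := Rep.hom_comm_apply sp.s g.1 (MonoidAlgebra.single x₀ 1)
  change sp.s.hom (P g.1 _) = M g.1 (sp.s.hom _) at h
  rw [Representation.ofMulAction_single, hx, haz, hM, hz] at h
  have h' := congrArg Prod.fst h
  simp only [permLift_single, one_smul] at h'
  have hD0 : D g.1 x₀ = c g := by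
    have ht0 : t x₀ = 1 := if_pos rfl
    have hg : γ g.1 x₀ = g := Subtype.ext (by simp [γ, hx, ht0])
    simp [D, hg, hx, ht0]
  rw [hD0] at h'
  simp only [map_neg]
  rw [sub_neg_eq_add, neg_add_eq_sub, sub_eq_iff_eq_add]
  exact h'.trans (add_comm _ _)

end Groth.Agent.Lib.Coflasque.Basic
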